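import Cfsg.Agent.H922.Ore.HSFinal
import Cfsg.Agent.H540.ClassNum

/-!
# Class number bounds for `A12` and `HS` (helper946, for S4908, row FROB of `Co3`)
-/

set_option autoImplicit false

namespace Cfsg.Agent.H946.S8

open Cfsg Equiv

universe u v

theorem card_classes_congr {G : Type u} {H : Type v} [Group G] [Group H] (e : G ≃* H) :
    Nat.card (ConjClasses G) = Nat.card (ConjClasses H) := by
  refine Nat.card_congr ⟨ConjClasses.map e.toMonoidHom, ConjClasses.map e.symm.toMonoidHom, ?_, ?_⟩
  · intro c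
    obtain ⟨g, rfl⟩ := ConjClasses.exists_rep c
    exact congrArg ConjClasses.mk (e.symm_apply_apply g)
  · intro c
    obtain ⟨g, rfl⟩ := ConjClasses.exists_rep c
    exact congrArg ConjClasses.mk (e.apply_symm_apply g)

/-! ### `S12` -/

/-- the parts at least 7 -/
def big (s : Multiset ℕ) : Multiset ℕ := s.filter (7 ≤ ·)

theorem big_eq {s : Multiset ℕ} (h : s.sum ≤ 12) : big s = if (big s).sum = 0 then 0 else {(big s).sum} := by
  have h1 : (big s).sum ≤ 12 := by
    have h2 : (big s).sum + (s.filter fun x => ¬ 7 ≤ x).sum = s.sum := by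
      rw [← Multiset.sum_add, big, Multiset.filter_add_not]
    omega
  have h2 : ∀ x ∈ big s, 7 ≤ x := fun x hx => (Multiset.mem_filter.1 hx).2
  have h3 : (big s).card * 7 ≤ (big s).sum := by
    have := Multiset.card_nsmul_le_sum (s := big s) (a := 7) h2
    simpa [smul_eq_mul] using this
  have h4 : (big s).card ≤ 1 := by omega
  rcases Nat.lt_or_ge (big s).card 1 with h5 | h5
  · have h6 : big s = 0 := Multiset.card_eq_zero.1 (by omega)
    rw [h6]
    simp
  · obtain ⟨x, hx⟩ := Multiset.card_eq_one.1 (le_antisymm h4 h5)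
    have h6 : 7 ≤ x := h2 x (by rw [hx]; exact Multiset.mem_singleton_self x)
    rw [hx, Multiset.sum_singleton, if_neg (by omega)]

/-- the invariant -/
def cnt (s : Multiset ℕ) : ℕ × ℕ × ℕ × ℕ × ℕ × ℕ :=
  (s.count 2, s.count 3, s.count 4, s.count 5, s.count 6, (big s).sum)

/-- its possible values -/
def box : Finset (ℕ × ℕ × ℕ × ℕ × ℕ × ℕ) :=
  (Finset.range 7 ×ˢ Finset.range 5 ×ˢ Finset.range 4 ×ˢ Finset.range 3 ×ˢ Finset.range 3 ×ˢ
      ({0, 7, 8, 9, 10, 11, 12} : Finset ℕ)).filter
    fun t => 2 * t.1 + 3 * t.2.1 + 4 * t.2.2.1 + 5 * t.2.2.2.1 + 6 * t.2.2.2.2.1 + t.2.2.2.2.2 ≤ 12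

theorem box_card : box.card = 77 := by decide +kernel

theorem sum_eq {s : Multiset ℕ} (h2 : ∀ x ∈ s, 2 ≤ x) :
    s.sum = 2 * s.count 2 + 3 * s.count 3 + 4 * s.count 4 + 5 * s.count 5 + 6 * s.count 6 + (big s).sum := by
  have h0 : (big s).sum + (s.filter fun x => ¬ 7 ≤ x).sum = s.sum := by
    rw [← Multiset.sum_add, big, Multiset.filter_add_not]
  have h1 : (s.filter fun x => ¬ 7 ≤ x).sum = ∑ x ∈ Finset.Icc 2 6, (s.filter fun x => ¬ 7 ≤ x).count x * x := by
    rw [Finset.sum_multiset_count]
    simp only [smul_eq_mul]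
    refine Finset.sum_subset (fun x hx => ?_) fun x _ hx => ?_
    · rw [Multiset.mem_toFinset, Multiset.mem_filter] at hx
      rw [Finset.mem_Icc]
      have := h2 x hx.1
      omega
    · rw [Multiset.mem_toFinset] at hx
      rw [Multiset.count_eq_zero_of_notMem hx, zero_mul]
  have h3 : ∀ x ∈ Finset.Icc 2 6, (s.filter fun x => ¬ 7 ≤ x).count x * x = s.count x * x := by
    intro x hx
    rw [Finset.mem_Icc] at hx
    rw [Multiset.count_filter_of_pos (by omega)]
  rw [Finset.sum_congr rfl h3] at h1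
  have h4 : (Finset.Icc 2 6 : Finset ℕ) = {2, 3, 4, 5, 6} := by decide
  rw [h4] at h1
  simp only [Finset.mem_insert, Finset.mem_singleton, Nat.reduceEqDiff, or_self, not_false_eq_true,
    Finset.sum_insert, Finset.sum_singleton] at h1
  omega

theorem cnt_mem {s : Multiset ℕ} (h2 : ∀ x ∈ s, 2 ≤ x) (h : s.sum ≤ 12) : cnt s ∈ box := by
  have h1 := sum_eq h2
  have h3 : (big s).sum = 0 ∨ 7 ≤ (big s).sum := by
    by_cases h4 : (big s).sum = 0
    · exact Or.inl h4
    · right
      have h5 := big_eq h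
      rw [if_neg h4] at h5
      have h6 : (big s).sum ∈ big s := by
        have := Multiset.mem_singleton_self (big s).sum
        rwa [← h5] at this
      exact (Multiset.mem_filter.1 h6).2
  rw [box, Finset.mem_filter]
  simp only [Finset.mem_product, Finset.mem_range, cnt, Finset.mem_insert, Finset.mem_singleton]
  omega

theorem cnt_injective {s t : Multiset ℕ} (hs2 : ∀ x ∈ s, 2 ≤ x) (hs : s.sum ≤ 12)
    (ht2 : ∀ x ∈ t, 2 ≤ x) (ht : t.sum ≤ 12) (h : cnt s = cnt t) : s = t := by
  simp only [cnt, Prod.mk.injEq] at h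
  obtain ⟨h2, h3, h4, h5, h6, h7⟩ := h
  have hb : big s = big t := by rw [big_eq hs, big_eq ht, h7]
  ext x
  by_cases hx : 7 ≤ x
  · have e1 : s.count x = (big s).count x := (Multiset.count_filter_of_pos hx).symm
    have e2 : t.count x = (big t).count x := (Multiset.count_filter_of_pos hx).symm
    rw [e1, e2, hb]
  · by_cases hx2 : 2 ≤ x
    · have : x = 2 ∨ x = 3 ∨ x = 4 ∨ x = 5 ∨ x = 6 := by omega
      rcases this with rfl | rfl | rfl | rfl | rfl
      · exact h2
      · exact h3
      · exact h4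
      · exact h5
      · exact h6
    · have h1 : x ∉ s := fun hx' => hx2 (hs2 x hx')
      have h1' : x ∉ t := fun hx' => hx2 (ht2 x hx')
      rw [Multiset.count_eq_zero_of_notMem h1, Multiset.count_eq_zero_of_notMem h1']

theorem k_s12 : Nat.card (ConjClasses (Perm (Fin 12))) ≤ 77 := by
  have hsum : ∀ σ : Perm (Fin 12), σ.cycleType.sum ≤ 12 := by
    intro σ
    rw [Perm.sum_cycleType]
    exact (Finset.card_le_univ _).trans (by rw [Fintype.card_fin])
  let f : ConjClasses (Perm (Fin 12)) → box := fun c =>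
    ⟨cnt (Quotient.out c : Perm (Fin 12)).cycleType,
      cnt_mem (fun x hx => Perm.two_le_of_mem_cycleType hx) (hsum _)⟩
  have hf : Function.Injective f := by
    intro c d h
    have h1 := congrArg Subtype.val h
    have h2 := cnt_injective (fun x hx => Perm.two_le_of_mem_cycleType hx) (hsum _)
      (fun x hx => Perm.two_le_of_mem_cycleType hx) (hsum _) h1
    have h3 := Perm.isConj_iff_cycleType_eq.2 h2
    have h4 := ConjClasses.mk_eq_mk_iff_isConj.2 h3
    have e1 : ConjClasses.mk (Quotient.out c : Perm (Fin 12)) = c := Quotient.out_eq c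
    have e2 : ConjClasses.mk (Quotient.out d : Perm (Fin 12)) = d := Quotient.out_eq d
    rwa [e1, e2] at h4
  have h1 := Nat.card_le_card_of_injective f hf
  rw [Nat.card_eq_fintype_card (α := box), Fintype.card_coe, box_card] at h1
  exact h1

/-- `k(A12) ≤ 154` (the true value is 43) -/
theorem k_a12_le {S : Type u} [Group S] [Finite S] (e : S ≃* alternatingGroup (Fin 12)) :
    Nat.card (ConjClasses S) ≤ 154 := by
  rw [card_classes_congr e]
  have h1 := Cfsg.Agent.H540.ClassNum.le_index_mul (alternatingGroup (Fin 12))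
  have h2 : (alternatingGroup (Fin 12)).index = 2 := alternatingGroup.index_eq_two
  rw [h2] at h1
  exact h1.trans (Nat.mul_le_mul_left 2 k_s12)

theorem k_a12 {S : Type u} [Group S] [Finite S] (e : S ≃* alternatingGroup (Fin 12)) :
    Nat.card (ConjClasses S) ≤ 500 := (k_a12_le e).trans (by norm_num)

/-! ### `HS` -/

open Cfsg.Agent.H922.Ore.Gr Cfsg.Agent.SporadicA.PermTab in
/-- a class number bound from helper922's covers -/
theorem k_of_cover {n A : ℕ} [NeZero n] {Q R : Subgroup (Perm (Fin n))} (hQR : Q ≤ R) (hRA : R ≤ autG n A)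
    (hnorm : ∀ r ∈ R, ∀ q ∈ Q, r * q * r⁻¹ ∈ Q) {ι : Type} [Fintype ι] (D : ι → Cls)
    (hD : ∀ i, (D i).chk n A = true) (hmem : ∀ i, ∀ P ∈ (D i).A ++ (D i).B ++ (D i).S ++ (D i).T ++ (D i).R, InG Q P)
    (hI : Function.Injective fun i => (D i).I) (hs : Nat.card Q ≤ ∑ i, Nat.card R / bnd (D i).L) :
    Nat.card (ConjClasses Q) ≤ Fintype.card ι * Q.relIndex R := by
  classical
  have h0 : ∀ i, ∃ x ∈ Q, Acts x [(D i).X] := by
    intro i
    have h := hD i
    simp only [Cls.chk, Bool.and_eq_true] at h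
    obtain ⟨x, h1, h2, -⟩ := Wit.ok (D i).toWit h.1 (hmem i)
    exact ⟨x, h1, h2⟩
  choose x hxQ hxA using h0
  have : (Q.subgroupOf R).Normal := by
    refine ⟨fun q hq r => ?_⟩
    rw [Subgroup.mem_subgroupOf] at hq ⊢
    exact hnorm r r.2 q hq
  have hcard : Nat.card (Q.subgroupOf R) = Nat.card Q := Nat.card_congr (Subgroup.subgroupOfEquivOfLe hQR).toEquiv
  have hex : ∀ g : Q, ∃ i, ∃ c : R, (c : Perm (Fin n)) * x i * (c : Perm (Fin n))⁻¹ = g := by
    intro g
    obtain ⟨i, hi⟩ := complete (Q.subgroupOf R) (fun i => (⟨x i, hQR (hxQ i)⟩ : R)) (fun i => bnd (D i).L)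
      (fun i => hxQ i) (by
        intro i
        have h := hD i
        simp only [Cls.chk, Bool.and_eq_true] at h
        -- the centralizer as a subgroup of `Perm`
        have e : Nat.card ↥(Subgroup.centralizer ({(⟨x i, hQR (hxQ i)⟩ : R)} : Set R)) =
            Nat.card ↥((Subgroup.centralizer ({(⟨x i, hQR (hxQ i)⟩ : R)} : Set R)).map R.subtype) :=
          Nat.card_congr (Subgroup.equivMapOfInjective _ _ R.subtype_injective).toEquiv
        rw [e]
        refine card_le_of_chC (hxA i) (D i).m (D i).k (D i).L _ [] ?_ ?_ ?_ h.2.1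
        · rintro _ ⟨c, -, rfl⟩
          exact hRA c.2
        · rintro _ ⟨c, hc, rfl⟩ j
          have hc' := Subgroup.mem_centralizer_singleton_iff.1 hc
          have h1 := congrArg (fun z : R => (z : Perm (Fin n)) j) hc'
          exact h1
        · intro c _ f hf
          exact absurd hf List.not_mem_nil) (by
        intro i j hij
        obtain ⟨c, hc⟩ := isConj_iff.1 hij
        have h1 : (c : Perm (Fin n)) * x i * (c : Perm (Fin n))⁻¹ = x j := congrArg Subtype.val hc
        have h2 : (c : Perm (Fin n)) * x i = x j * c := by rw [← h1]; group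
        have h3 := inv4v_conj (hRA c.2) h2
        have key : ∀ i, inv4v A (x i) = (D i).I := by
          intro i
          have h := hD i
          simp only [Cls.chk, Bool.and_eq_true] at h
          obtain ⟨-, -, h4⟩ := h
          split at h4
          · next v2 v1 w2 w1 he =>
            rw [he]
            exact inv4v_of (hxA i) h4
          · exact absurd h4 (by simp)
        rw [key, key] at h3
        exact hI h3) (by rw [hcard]; exact hs) ⟨g, hQR g.2⟩ g.2
    obtain ⟨c, hc⟩ := isConj_iff.1 hi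
    exact ⟨i, c, congrArg Subtype.val hc⟩
  choose i c hc using hex
  let F : ConjClasses Q → ι × (R ⧸ Q.subgroupOf R) := fun C => (i (Quotient.out C), ((c (Quotient.out C) : R) : R ⧸ Q.subgroupOf R))
  have hF : Function.Injective F := by
    intro C C' h
    obtain ⟨h1, h2⟩ := Prod.mk.inj h
    set g := Quotient.out C with hg
    set g' := Quotient.out C' with hg'
    rw [QuotientGroup.eq, Subgroup.mem_subgroupOf] at h2
    have h3 : ((c g : Perm (Fin n))⁻¹ * (c g' : Perm (Fin n))) ∈ Q := h2
    have h4 := hnorm _ (c g).2 _ h3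
    have h5 : IsConj g g' := by
      rw [isConj_iff]
      refine ⟨⟨_, h4⟩, Subtype.ext ?_⟩
      have e1 := hc g
      have e2 := hc g'
      rw [← h1] at e2
      show (c g : Perm (Fin n)) * ((c g : Perm (Fin n))⁻¹ * (c g' : Perm (Fin n))) * (c g : Perm (Fin n))⁻¹ * (g : Perm (Fin n)) *
        ((c g : Perm (Fin n)) * ((c g : Perm (Fin n))⁻¹ * (c g' : Perm (Fin n))) * (c g : Perm (Fin n))⁻¹)⁻¹ = g'
      rw [← e1, ← e2]
      group
    have h6 := ConjClasses.mk_eq_mk_iff_isConj.2 h5
    have e1 : ConjClasses.mk g = C := Quotient.out_eq C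
    have e2 : ConjClasses.mk g' = C' := Quotient.out_eq C'
    rwa [e1, e2] at h6
  have h1 := Nat.card_le_card_of_injective F hF
  rw [Nat.card_prod, Nat.card_eq_fintype_card (α := ι)] at h1
  exact h1

open Cfsg.Agent.HN.HS100 Cfsg.Agent.H922.Ore.HS Cfsg.Agent.H922.Ore.Gr in
/-- `k(HS) ≤ 42` (the true value is 24) -/
theorem k_hs_le {S : Type u} [Group S] (h : Spor.IsoHS S) : Nat.card (ConjClasses S) ≤ 42 := by
  obtain ⟨⟨e⟩, -⟩ := Cfsg.Agent.HN.AutHS.nonempty_Q
  obtain ⟨f⟩ := h
  rw [card_classes_congr (f.trans e.symm)]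
  have h1 := k_of_cover (R := φ.range) (A := adjA) Q_le_range range_le norm_Q D chk_all mem_all (by
    intro i j
    revert i j
    decide +kernel) (by
    rw [card_range, card_Q_eq]
    decide +kernel)
  have h2 : Q.relIndex φ.range = 2 := by
    have h3 := (Q.subgroupOf φ.range).card_mul_index
    rw [Nat.card_congr (Subgroup.subgroupOfEquivOfLe Q_le_range).toEquiv, card_range, card_Q_eq] at h3
    show (Q.subgroupOf φ.range).index = 2
    omega
  rw [h2, Fintype.card_fin] at h1
  exact h1

theorem k_hs {S : Type u} [Group S] [Finite S] (h : Spor.IsoHS S) : Nat.card (ConjClasses S) ≤ 2700 :=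
  (k_hs_le h).trans (by norm_num)

end Cfsg.Agent.H946.S8
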