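import Cfsg.Agent.H670.S8.FrobEng
import Cfsg.Agent.H444.ThLoc

/-!
# S4908, row FROB of the Thompson group, subgroups of order divisible by 31 (helper946)
-/

set_option autoImplicit false
set_option maxRecDepth 4000

namespace Cfsg.Agent.H946.S8.ThA

open Cfsg Subgroup Cfsg.Agent.H940.Eng Cfsg.Agent.H940.Eng.D Cfsg.Agent.OrdDiv Cfsg.Agent.H670.S8 Cfsg.Agent.H444.ThLoc

/-- the centralizer data -/
def cl : List (ℕ × List ℕ) := [(7, [1176]), (31, [31, 93])]

theorem cl_ok : ∀ x ∈ cl, CLoc G x := by
  intro x hx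
  simp only [cl, List.mem_cons, List.not_mem_nil, or_false] at hx
  rcases hx with rfl | rfl
  · exact ⟨by norm_num, fun g hg => ⟨1176, by simp, by rw [card_seven hg]⟩⟩
  · refine ⟨by norm_num, fun g hg => ?_⟩
    obtain ⟨h1, h2⟩ := card_cent_of (r := 31) (by norm_num) hg
    have h3 := (cn31 h1).1
    rw [h2] at h3
    rcases h3 with h3 | h3
    · exact ⟨31, by simp, by rw [h3]⟩
    · exact ⟨93, by simp, by rw [h3]⟩

/-- the test -/
def test (m : ℕ) : Bool :=
  !(Nat.beq (m % 31) 0) || Nat.ble (m * m) n_th || kb cl m 0 1 (n_th / m) || Nat.beq m n_th ||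
    bad l_th n_th [] 30 loc o_th m

theorem test_ok : allD test l_th 1 = true := by decide +kernel

/-- **subgroups of order divisible by 31** -/
theorem stepA_of (B : Base) (T : Subgroup Spor.Th) (hT : T ≠ ⊤) (h31 : 31 ∣ Nat.card T) :
    Nat.card T * Nat.card (ConjClasses T) ≤ Nat.card Spor.Th := by
  have c := ctx B
  have := c.fin
  have := c.simple
  have hcard := card_subgroup_dvd_card T
  have hmul : Nat.card T * T.index = Nat.card Spor.Th := card_mul_index T
  have hTpos : 0 < Nat.card T := Nat.card_pos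
  have hn : Nat.card Spor.Th = n_th := c.card
  have hidx : n_th / Nat.card T = T.index := by
    rw [← hn, ← hmul, Nat.mul_div_cancel_left _ hTpos]
  have hkT : Nat.card (ConjClasses T) ≤ Nat.card T :=
    Nat.card_le_card_of_surjective (ConjClasses.mk : T → ConjClasses T) (fun x => Quotient.exists_rep x)
  have hdiv : Nat.card T ∈ divsT l_th := by
    refine mem_divsT (valid_prime c.val) ?_
    rw [valid_prod c.val, ← hn]
    exact hcard
  have h1 := allD_sound test_ok _ hdiv
  rw [one_mul] at h1
  unfold test at h1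
  rw [Bool.or_eq_true, Bool.or_eq_true, Bool.or_eq_true, Bool.or_eq_true] at h1
  rcases h1 with (((h1 | h1) | h1) | h1) | h1
  · exfalso
    rw [Bool.not_eq_true', Nat.mod_eq_zero_of_dvd h31] at h1
    exact absurd h1 (by decide)
  · rw [Nat.ble_eq] at h1
    rw [hn]
    exact (Nat.mul_le_mul_left _ hkT).trans h1
  · rw [hidx] at h1
    calc Nat.card T * Nat.card (ConjClasses T) ≤ Nat.card T * T.index :=
          Nat.mul_le_mul_left _ (card_cls_le T cl_ok h1)
      _ = _ := hmul
  · exfalso
    refine hT ((card_eq_iff_eq_top T).1 ?_)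
    rw [hn]
    exact Nat.eq_of_beq_eq_true h1
  · exfalso
    have h2 := not_bad c.val hn c.ords c.loc (full := []) (bd := 30) (H := T) (fun p hp => absurd hp List.not_mem_nil) hT
    rw [h2] at h1
    exact absurd h1 (by decide)

end Cfsg.Agent.H946.S8.ThA
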